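import Groth.Agent.H25Quad.Smooth
import Groth.Agent.H10Coh.CI.Connected
import Groth.Agent.H10Coh.CI.HypMod
import Groth.Agent.H10Coh.CI.Regular
import Groth.Agent.H22Alg.ProjDim2
import Groth.Agent.S4466
import Groth.Agent.H22Alg.CMField
import Groth.Agent.H22Alg.RegSheaf
import Groth.Agent.H28Int.Surface
import Groth.Agent.H25Euler.Additive
import Groth.Agent.H28Int.Push
import Groth.Agent.H29RR.Consts
import Groth.Agent.H29DoubleCover.Connected
import Groth.Agent.H25Par.GPDeg
import Groth.Agent.H10Coh.Pn.Hodge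
import Mathlib

/-!
# A curve of genus one over an algebraically closed field, with a nontrivial involution
-/

set_option autoImplicit false
set_option linter.style.haveILetI false
set_option backward.isDefEq.respectTransparency.types false

universe u

open CategoryTheory CategoryTheory.Limits AlgebraicGeometry TopologicalSpace MvPolynomial

set_option maxHeartbeats 600000
noncomputable section

namespace Groth.Agent.H17.Genus1

attribute [local instance 10000] H10Coh.hasSheafifyAb H10Coh.hasWeakSheafifyAb H10Coh.hasExtAb H10Coh.enoughInjAb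

variable (k : Type u) [Field k]

theorem exists_cubic : ∃ G : LefPen.Form 2 k 3, G.1 ≠ 0 ∧
    ∀ v : Fin (2 + 1) → k, eval v G.1 = 0 → (∀ i, eval v (pderiv i G.1) = 0) → v = 0 := by
  classical
  let a : k := if (3 : k) = 0 then 1 else 0
  let F : MvPolynomial (Fin (2 + 1)) k := X 0 ^ 3 + X 1 ^ 3 + X 2 ^ 3 + C a * (X 0 * X 1 * X 2)
  have hF : F.IsHomogeneous 3 :=
    (((isHomogeneous_X_pow 0 3).add (isHomogeneous_X_pow 1 3)).add (isHomogeneous_X_pow 2 3)).add
      ((((isHomogeneous_X k 0).mul (isHomogeneous_X k 1)).mul (isHomogeneous_X k 2)).C_mul a)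
  refine ⟨⟨F, (mem_homogeneousSubmodule _ _).2 hF⟩, fun h => ?_, fun v h0 h => ?_⟩
  · have := congrArg (eval (fun i : Fin (2 + 1) => if i = 0 then (1 : k) else 0)) h
    simp [F] at this
  · have d0 := h 0
    have d1 := h 1
    have d2 := h 2
    simp [F, pderiv_mul, pderiv_pow, pderiv_X_of_ne, pderiv_C] at h0 d0 d1 d2
    by_cases h3 : (3 : k) = 0
    · simp only [a, if_pos h3, h3, one_mul, zero_mul, zero_add, mul_eq_zero] at h0 d0 d1 d2
      rcases d0 with h4 | h4 <;> rcases d1 with h5 | h5 <;> rcases d2 with h6 | h6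
      all_goals
        funext i
        fin_cases i <;> simp_all
    · simp only [a, if_neg h3, zero_mul, add_zero, mul_eq_zero, pow_eq_zero_iff, ne_eq, h3, false_or,
        OfNat.ofNat_ne_zero, not_false_eq_true] at h0 d0 d1 d2
      funext i
      fin_cases i <;> simp [d0, d1, d2]

theorem euler_twist (d : ℤ) :
    Curv2.euler k (CohB1.ProjSpace 2 k) (Twist.twistProjSpace 2 k d) = Ring.choose (d + 2) 2 := by
  haveI : IsProper (CohB1.ProjSpace 2 k ↘ Spec (CommRingCat.of k)) := H27Weil.isProper_toSpec 2 k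
  haveI := H28Int.isNoetherian k (X := CohB1.ProjSpace 2 k)
  have h := S4466.result k 2 (by norm_num) d
  norm_num at h
  rw [← h]
  exact H25Euler.euler_eq_sum _ 3 fun p hp =>
    H22Alg.CMField.van_iff.1 (H22Alg.CMField.van_high (n := 2) (k := k) (i := p) (by omega)
      (H11Ample.isCoh_of_isInvertible (H22Alg.RegSheaf.isInvertible_twistProjSpace 2 k d)).1)

variable [IsAlgClosed k]

omit [IsAlgClosed k] in
theorem ciIdeal_single (G : LefPen.Form 2 k 3) :
    LefPen.ciIdeal (r := 2) (k := k) (ι := Fin 1) (a := fun _ => 3) (fun _ => G) = LefPen.hypIdeal G := by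
  unfold LefPen.ciIdeal
  exact le_antisymm (iSup_le fun _ => le_rfl) (le_iSup (fun _ : Fin 1 => LefPen.hypIdeal G) 0)

omit [IsAlgClosed k] in
theorem dimLE_single (G : LefPen.Form 2 k 3) (hG0 : G.1 ≠ 0) :
    H10Coh.CI.DimLE (n := 2) (r := 1) (k := k) (a := fun _ => 3) (fun _ => G) := fun x hx => by
  obtain ⟨y, hy, hyq⟩ := H22Alg.ProjDim.exists_bot_point k 2
  have hlt : y < x := by
    show y.asHomogeneousIdeal.toIdeal < x.asHomogeneousIdeal.toIdeal
    rw [hy]
    refine bot_lt_iff_ne_bot.2 fun h => hG0 ?_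
    have hG : G.1 ∈ x.asHomogeneousIdeal.toIdeal := hx 0
    rw [h] at hG
    exact (Submodule.mem_bot _).1 hG
  have h1 := H22Alg.ProjDim.qdim_lt k 2 hlt
  rw [hyq] at h1
  omega

/-- There is a curve of genus one. -/
theorem exists_genus_one : ∃ (E : Scheme.{u}) (p : E ⟶ Spec (CommRingCat.of k)),
    IsProper p ∧ Smooth p ∧ ConnectedSpace E ∧ topologicalKrullDim E = 1 ∧
      (letI : E.Over (Spec (CommRingCat.of k)) := ⟨p⟩; Curv2.genus k E = 1) := by
  obtain ⟨G, hG0, hG⟩ := exists_cubic k
  let Gs : ∀ _ : Fin 1, LefPen.Form 2 k 3 := fun _ => G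
  have hci : LefPen.ciIdeal Gs = LefPen.hypIdeal G := ciIdeal_single k G
  have hdimLE : H10Coh.CI.DimLE Gs := dimLE_single k G hG0
  let E := (LefPen.ciIdeal Gs).subscheme
  let p : E ⟶ Spec (CommRingCat.of k) := (LefPen.ciIdeal Gs).subschemeι ≫ CohB1.ProjSpace.toSpec 2 k
  haveI : IsProper (CohB1.ProjSpace.toSpec 2 k) := H27Weil.isProper_toSpec 2 k
  haveI hprop : IsProper p := inferInstance
  have hsm : Smooth p := by
    show Smooth ((LefPen.ciIdeal Gs).subschemeι ≫ CohB1.ProjSpace.toSpec 2 k)
    rw [hci]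
    exact H25Quad.smooth_hyp G hG
  have hconn : GeometricallyConnected p :=
    H10Coh.CI.geometricallyConnected_ci (by norm_num) (fun _ => by norm_num) hdimLE (by norm_num)
  haveI : ConnectedSpace E := by
    haveI := hconn
    exact GeometricallyConnected.connectedSpace_of_subsingleton p
  have hdim : topologicalKrullDim E = 1 := by
    refine le_antisymm (by exact_mod_cast H10Coh.CI.dim_subscheme_le hdimLE) ?_
    obtain ⟨y, hy, hyq⟩ := H10Coh.CI.exists_mem_zero (n := 2) (r := 1) (by norm_num) (fun _ => by norm_num) Gs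
    let A : Set (CohB1.ProjSpace 2 k) := Set.range (LefPen.ciIdeal Gs).subschemeι
    have hyA : y ∈ A := by
      show y ∈ Set.range _
      rw [Scheme.IdealSheafData.range_subschemeι]
      exact (H10Coh.CISupport.mem_support_ciIdeal Gs y).2 hy
    have h := H22Alg.ProjDim.le_dim k 2 (A := A) (LefPen.ciIdeal Gs).subschemeι.isClosedEmbedding.isClosed_range hyA
      (d := 1) (by omega)
    exact_mod_cast h.trans (IsHomeomorph.topologicalKrullDim_eq _
      (LefPen.ciIdeal Gs).subschemeι.isClosedEmbedding.isEmbedding.toHomeomorph.isHomeomorph).ge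
  letI : E.Over (Spec (CommRingCat.of k)) := ⟨p⟩
  haveI : IsProper (E ↘ Spec (CommRingCat.of k)) := hprop
  haveI : Smooth (E ↘ Spec (CommRingCat.of k)) := hsm
  haveI : IsIntegral E := H29DoubleCover.isIntegral_of_smooth_connected p
  refine ⟨E, p, hprop, hsm, inferInstance, hdim, ?_⟩
  -- the Euler characteristic
  let Q := CohB1.ProjSpace 2 k
  haveI : IsProper (Q ↘ Spec (CommRingCat.of k)) := H27Weil.isProper_toSpec 2 k
  haveI := H28Int.isNoetherian k (X := Q)
  haveI := H28Int.isNoetherian k (X := E)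
  let I := LefPen.ciIdeal Gs
  let S : ShortComplex Q.Modules :=
    ShortComplex.mk (ClSub.idealModι I) (ClSub.toSubscheme I) (kernel.condition _)
  have hS : S.ShortExact :=
    haveI : Mono S.f := inferInstanceAs (Mono (kernel.ι _))
    haveI : Epi S.g := H10Coh.epi_toSubscheme I
    { exact := ShortComplex.exact_kernel _ }
  obtain ⟨e0⟩ := H10Coh.CI.nonempty_idealMod_hypIdeal G hG0
  obtain ⟨e1⟩ := H10Coh.PnHodge.nonempty_zero 2 k
  haveI : (Coh.structureModule E).IsQuasicoherent := H10Coh.isQuasicoherent_unit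
  have h1 : Coh.IsCoh (ClSub.idealMod I) := by
    show Coh.IsCoh (ClSub.idealMod (LefPen.ciIdeal Gs))
    rw [hci]
    exact H10Coh.isCoh_of_iso e0.symm (H11Ample.isCoh_of_isInvertible (H22Alg.RegSheaf.isInvertible_twistProjSpace 2 k _))
  have h2 : Coh.IsCoh (Coh.structureModule Q) := H28Int.Surface.isCoh_structure k
  have h3 : Coh.IsCoh (ClSub.quotMod I) := H25Par.isCoh_quotMod I
  have hadd := H25Euler.euler_add (k := k) hS h1 h2 h3
  have hQ : Curv2.euler k Q (Coh.structureModule Q) = 1 := by
    have h := euler_twist k 0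
    first
      | rw [H25Euler.euler_congr e1] at h
      | rw [← H25Euler.euler_congr e1] at h
    rw [h, show (0 : ℤ) + 2 = ((2 : ℕ) : ℤ) by norm_num, Ring.choose_natCast]
    norm_num
  have hI : Curv2.euler k Q (ClSub.idealMod I) = 1 := by
    show Curv2.euler k Q (ClSub.idealMod (LefPen.ciIdeal Gs)) = 1
    rw [hci, H25Euler.euler_congr e0]
    refine (euler_twist k _).trans ?_
    rw [show -((3 : ℕ) : ℤ) + 2 = -(1 : ℤ) by norm_num, Ring.choose_neg,
      show (1 : ℤ) + ((2 : ℕ) : ℤ) - 1 = ((2 : ℕ) : ℤ) by norm_num, Ring.choose_natCast]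
    norm_num [Units.smul_def, zsmul_eq_mul, Int.negOnePow_even (2 : ℤ) (by decide)]
  have hE : Curv2.euler k E (Coh.structureModule E) = 0 := by
    have h : Curv2.euler k Q (ClSub.quotMod I) = Curv2.euler k E (Coh.structureModule E) :=
      H28Int.Push.euler_push k I.subschemeι rfl (Coh.structureModule E)
    have hadd' : Curv2.euler k Q (Coh.structureModule Q) =
        Curv2.euler k Q (ClSub.idealMod I) + Curv2.euler k Q (ClSub.quotMod I) := hadd
    omega
  have h0 := H29RR.finrank_h0_structure k E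
  have hsum := H28Int.eulerCharLE_eq k (X := E) (d := 1) (F := Coh.structureModule E) hdim.le H10Coh.isQuasicoherent_unit
  rw [hE, FGA.eulerCharLE, Finset.sum_range_succ, Finset.sum_range_one, h0] at hsum
  show Module.finrank k (Coh.HH E (Coh.structureModule E) 1) = 1
  push_cast at hsum
  omega

end Groth.Agent.H17.Genus1
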