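import Groth.Agent.H17.Genus1.Local

/-!
# The isotrivial family over two copies of a base glued along two disjoint opens
-/

set_option autoImplicit false
set_option linter.style.haveILetI false

universe u

open CategoryTheory CategoryTheory.Limits AlgebraicGeometry TopologicalSpace

noncomputable section

namespace Groth.Agent.H17.Genus1

variable {S : Scheme.{u}}

theorem isPullback_of_r {T M : Over S} (g : T ⟶ M) (ξ : Over M.left) (x : Over T.left)
    (h : (ModFun.schProb S).r T ((ModFun.schProb S).pull g ξ) x) :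
    ∃ i : x.left ⟶ ξ.left, IsPullback i x.hom ξ.hom g.left := by
  obtain ⟨e⟩ := h
  let e' : ((Over.pullback g.left).obj ξ) ≅ x := e
  haveI : IsIso e'.inv.left := inferInstanceAs (IsIso ((Over.forget T.left).map e'.inv))
  refine ⟨e'.inv.left ≫ pullback.fst ξ.hom g.left, ?_⟩
  have hw : e'.inv.left ≫ pullback.snd ξ.hom g.left = x.hom := Over.w e'.inv
  have h1 : IsPullback e'.inv.left x.hom (pullback.snd ξ.hom g.left) (𝟙 T.left) :=
    IsPullback.of_horiz_isIso ⟨by rw [hw, Category.comp_id]⟩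
  simpa using h1.paste_horiz (IsPullback.of_hasPullback ξ.hom g.left)

theorem r_of_isPullback {T M : Over S} (g : T ⟶ M) (ξ : Over M.left) (x : Over T.left)
    (i : x.left ⟶ ξ.left) (h : IsPullback i x.hom ξ.hom g.left) :
    (ModFun.schProb S).r T ((ModFun.schProb S).pull g ξ) x :=
  ⟨(Over.isoMk h.isoPullback h.isoPullback_hom_snd).symm⟩

/-- If there is a fine moduli scheme of curves, the family over two copies of `U` glued along two
disjoint opens `A₁`, `A₂`, twisted by `σ` on `A₂`, is constant: the twist extends to `U`. -/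
theorem exists_extension {E U : Scheme.{u}} (p : E ⟶ S) (q : U ⟶ S) (g : ℕ)
    (hcurve : ∀ {T : Scheme.{u}} (t : T ⟶ S), ModFun.IsCurveOfGenus g (pullback.snd p t))
    (M : Over S) (hM : ModFun.IsFineModuli ⊤ (ModFun.Mg S g) M)
    (A₁ A₂ : U.Opens) (hd : (A₁ : Set U) ∩ A₂ = ∅) (σ : E ⟶ E) (hσ : σ ≫ p = p)
    (hσσ : σ ≫ σ = 𝟙 E) :
    ∃ φ : pullback p q ⟶ E, φ ≫ p = pullback.snd p q ≫ q ∧
      (∀ (Z : Scheme.{u}) (z : Z ⟶ pullback p q),
        Set.range (z ≫ pullback.snd p q) ⊆ A₁ → z ≫ φ = z ≫ pullback.fst p q) ∧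
      (∀ (Z : Scheme.{u}) (z : Z ⟶ pullback p q),
        Set.range (z ≫ pullback.snd p q) ⊆ A₂ → z ≫ φ = z ≫ pullback.fst p q ≫ σ) := by
  obtain ⟨ξ, hξ, huniv⟩ := hM
  -- the product family and its restriction to the two opens
  let U₀ : U.Opens := A₁ ⊔ A₂
  let q₀ : U₀.toScheme ⟶ S := U₀.ι ≫ q
  let P₀ := pullback p q₀
  let s₀ : P₀ ⟶ U₀.toScheme := pullback.snd p q₀
  let m : P₀ ⟶ pullback p q :=
    pullback.lift (pullback.fst p q₀) (s₀ ≫ U₀.ι) (by rw [pullback.condition, Category.assoc])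
  have hm : IsPullback m s₀ (pullback.snd p q) U₀.ι := by
    refine IsPullback.of_right (h₁₂ := pullback.fst p q) ?_ (pullback.lift_snd _ _ _)
      (IsPullback.of_hasPullback p q)
    rw [pullback.lift_fst]
    exact IsPullback.of_hasPullback p q₀
  haveI : IsOpenImmersion m := MorphismProperty.of_isPullback hm.flip (inferInstanceAs (IsOpenImmersion U₀.ι))
  let V₁ : P₀.Opens := s₀ ⁻¹ᵁ (U₀.ι ⁻¹ᵁ A₁)
  let V₂ : P₀.Opens := s₀ ⁻¹ᵁ (U₀.ι ⁻¹ᵁ A₂)
  have hVd : (V₁ : Set P₀) ∩ V₂ = ∅ := Set.eq_empty_of_forall_notMem fun x ⟨h1, h2⟩ =>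
    Set.notMem_empty _ (hd.le (⟨h1, h2⟩ : U₀.ι (s₀ x) ∈ (A₁ : Set U) ∩ A₂))
  have hVc : (V₁ : Set P₀) ∪ V₂ = Set.univ := Set.eq_univ_of_forall fun x => (s₀ x).2
  obtain ⟨θ, hθ₁, hθ₂⟩ := exists_glue_disjoint V₁ V₂ hVd hVc (pullback.fst p q₀) (pullback.fst p q₀ ≫ σ)
  have hext : ∀ {Y : Scheme.{u}} (f f' : P₀ ⟶ Y), V₁.ι ≫ f = V₁.ι ≫ f' → V₂.ι ≫ f = V₂.ι ≫ f' → f = f' := by
    intro Y f f' h1 h2
    obtain ⟨F, hF₁, hF₂⟩ := exists_glue_disjoint V₁ V₂ hVd hVc f f
    let W : Bool → P₀.Opens := fun b => if b then V₁ else V₂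
    refine Scheme.Cover.hom_ext (P₀.openCoverOfIsOpenCover W (.mk (eq_top_iff.2
      fun x _ => Opens.mem_iSup.2 ?_))) _ _ fun b => ?_
    · rcases (hVc.ge (Set.mem_univ x) : x ∈ (V₁ : Set P₀) ∪ V₂) with h | h
      · exact ⟨true, h⟩
      · exact ⟨false, h⟩
    · change Bool at b
      show (W b).ι ≫ f = (W b).ι ≫ f'
      cases b
      · exact h2
      · exact h1
  have hθp : θ ≫ p = s₀ ≫ q₀ := by
    refine hext _ _ ?_ ?_
    · rw [← Category.assoc, hθ₁ _ _ V₁.range_ι.le, Category.assoc, pullback.condition]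
    · rw [← Category.assoc, hθ₂ _ _ V₂.range_ι.le]
      simp only [Category.assoc, hσ, pullback.condition]
      rfl
  let τ : P₀ ⟶ P₀ := pullback.lift θ s₀ hθp
  have hτs : τ ≫ s₀ = s₀ := pullback.lift_snd _ _ _
  have hττ : τ ≫ τ = 𝟙 P₀ := by
    refine pullback.hom_ext ?_ ?_
    · rw [Category.assoc, pullback.lift_fst, Category.id_comp]
      have hr : ∀ (V : U.Opens),
          Set.range ((s₀ ⁻¹ᵁ (U₀.ι ⁻¹ᵁ V)).ι ≫ τ) ⊆ (s₀ ⁻¹ᵁ (U₀.ι ⁻¹ᵁ V) : P₀.Opens) := by
        rintro V _ ⟨x, rfl⟩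
        show U₀.ι (s₀ (τ _)) ∈ V
        rw [← Scheme.Hom.comp_apply τ s₀, hτs]
        exact x.2
      refine hext _ _ ?_ ?_
      · rw [← Category.assoc, hθ₁ _ _ (hr A₁), Category.assoc, pullback.lift_fst,
          hθ₁ _ _ V₁.range_ι.le]
      · rw [← Category.assoc, hθ₂ _ _ (hr A₂), Category.assoc, ← Category.assoc τ, pullback.lift_fst,
          ← Category.assoc, hθ₂ _ _ V₂.range_ι.le, Category.assoc, Category.assoc, hσσ, Category.comp_id]
    · rw [Category.assoc, Category.id_comp]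
      show τ ≫ τ ≫ s₀ = s₀
      rw [hτs, hτs]
  haveI : IsIso τ := ⟨τ, hττ, hττ⟩
  -- the glued base and family
  let T := pushout U₀.ι U₀.ι
  let P := pullback p q
  let C := pushout m (τ ≫ m)
  let π : C ⟶ T := pushout.desc (pullback.snd p q ≫ pushout.inl U₀.ι U₀.ι)
    (pullback.snd p q ≫ pushout.inr U₀.ι U₀.ι) (by
      rw [← Category.assoc, hm.w, Category.assoc, pushout.condition, Category.assoc,
        reassoc_of% hm.w, ← Category.assoc τ, hτs])
  have hr₁ : pushout.inl m (τ ≫ m) ≫ π = pullback.snd p q ≫ pushout.inl U₀.ι U₀.ι := pushout.inl_desc _ _ _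
  have hr₂ : pushout.inr m (τ ≫ m) ≫ π = pullback.snd p q ≫ pushout.inr U₀.ι U₀.ι := pushout.inr_desc _ _ _
  have hfib : ∀ y : P, (pullback.snd p q y : U) ∈ Set.range U₀.ι → ∃ y₀ : P₀, m y₀ = y := fun y ⟨w, hw⟩ => by
    obtain ⟨o, ho, -⟩ := Scheme.exists_preimage_of_isPullback hm y w hw.symm
    exact ⟨o, ho⟩
  have hl : IsPullback (pushout.inl m (τ ≫ m)) (pullback.snd p q) π (pushout.inl U₀.ι U₀.ι) := by
    refine (IsOpenImmersion.isPullback _ _ _ _ hr₁ ?_).flip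
    ext c
    constructor
    · intro hc
      rcases OpenPushout.inl_or_inr m (τ ≫ m) c with ⟨x, rfl⟩ | ⟨x, rfl⟩
      · exact ⟨x, rfl⟩
      · obtain ⟨a, ha⟩ : π (pushout.inr m (τ ≫ m) x) ∈ Set.range (pushout.inl U₀.ι U₀.ι) := hc
        rw [← Scheme.Hom.comp_apply _ π, hr₂, Scheme.Hom.comp_apply] at ha
        obtain ⟨w, -, hw⟩ := OpenPushout.inl_eq_inr _ _ ha
        obtain ⟨y, rfl⟩ := hfib x ⟨w, hw⟩
        obtain ⟨y', rfl⟩ := τ.homeomorph.surjective y
        refine ⟨m y', ?_⟩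
        exact congr($(pushout.condition (f := m) (g := τ ≫ m)).base y')
    · rintro ⟨x, rfl⟩
      exact ⟨_, (congr($(hr₁).base x)).symm⟩
  have hrr : IsPullback (pushout.inr m (τ ≫ m)) (pullback.snd p q) π (pushout.inr U₀.ι U₀.ι) := by
    refine (IsOpenImmersion.isPullback _ _ _ _ hr₂ ?_).flip
    ext c
    constructor
    · intro hc
      rcases OpenPushout.inl_or_inr m (τ ≫ m) c with ⟨x, rfl⟩ | ⟨x, rfl⟩
      · obtain ⟨a, ha⟩ : π (pushout.inl m (τ ≫ m) x) ∈ Set.range (pushout.inr U₀.ι U₀.ι) := hc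
        rw [← Scheme.Hom.comp_apply _ π, hr₁, Scheme.Hom.comp_apply] at ha
        obtain ⟨w, hw, -⟩ := OpenPushout.inl_eq_inr _ _ ha.symm
        obtain ⟨y, rfl⟩ := hfib x ⟨w, hw⟩
        refine ⟨m (τ y), ?_⟩
        exact congr($(pushout.condition (f := m) (g := τ ≫ m)).base y).symm
      · exact ⟨x, rfl⟩
    · rintro ⟨x, rfl⟩
      exact ⟨_, (congr($(hr₂).base x)).symm⟩
  -- the two families over `T`
  let qT : T ⟶ S := pushout.desc q q rfl
  let TT : Over S := Over.mk qT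
  let Ql := pullback.snd p qT
  obtain ⟨g₁, hg₁, -⟩ := huniv TT (Over.mk π) trivial ⟨trivial, isCurve_local π
    (pushout.inl U₀.ι U₀.ι) (pushout.inr U₀.ι U₀.ι) (OpenPushout.inl_or_inr _ _) hl hrr (hcurve q) (hcurve q)⟩
  obtain ⟨g₂, hg₂, -⟩ := huniv TT (Over.mk Ql) trivial ⟨trivial, hcurve qT⟩
  obtain ⟨i₁, hi₁⟩ := isPullback_of_r g₁ ξ (Over.mk π) hg₁
  obtain ⟨i₂, hi₂⟩ := isPullback_of_r g₂ ξ (Over.mk Ql) hg₂
  have hagree : ∀ (v : U ⟶ T), v ≫ qT = q → ∀ {j : P ⟶ C}, IsPullback j (pullback.snd p q) π v →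
      v ≫ g₁.left = v ≫ g₂.left := by
    intro v hv j hj
    let k₂ : P ⟶ pullback p qT := pullback.lift (pullback.fst p q) (pullback.snd p q ≫ v)
      (by rw [pullback.condition, Category.assoc, hv])
    have hk₂ : IsPullback k₂ (pullback.snd p q) Ql v := by
      refine IsPullback.of_right (h₁₂ := pullback.fst p qT) ?_ (pullback.lift_snd _ _ _)
        (IsPullback.of_hasPullback p qT)
      rw [pullback.lift_fst, hv]
      exact IsPullback.of_hasPullback p q
    let vv : Over.mk q ⟶ TT := Over.homMk v hv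
    obtain ⟨g₃, -, hu⟩ := huniv (Over.mk q) (Over.mk (pullback.snd p q)) trivial ⟨trivial, hcurve q⟩
    have e₁ := hu (vv ≫ g₁) (r_of_isPullback _ ξ _ (j ≫ i₁) (hj.paste_horiz hi₁))
    have e₂ := hu (vv ≫ g₂) (r_of_isPullback _ ξ _ (k₂ ≫ i₂) (hk₂.paste_horiz hi₂))
    exact congrArg CommaMorphism.left (e₁.trans e₂.symm)
  have hg : g₁.left = g₂.left := pushout.hom_ext (hagree _ (pushout.inl_desc _ _ _) hl)
    (hagree _ (pushout.inr_desc _ _ _) hrr)
  -- hence `C` is the constant family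
  rw [← hg] at hi₂
  let e : C ≅ pullback p qT := hi₁.isoIsPullback _ _ hi₂
  have hC : IsPullback (e.hom ≫ pullback.fst p qT) π p qT := by
    have h1 : IsPullback e.hom π Ql (𝟙 T) := IsPullback.of_horiz_isIso
      ⟨by rw [Category.comp_id]; exact IsPullback.isoIsPullback_hom_snd _ _ hi₁ hi₂⟩
    simpa using h1.paste_horiz (IsPullback.of_hasPullback p qT)
  have ha := hl.paste_horiz hC
  have hb := hrr.paste_horiz hC
  simp only [qT, pushout.inl_desc] at ha
  simp only [qT, pushout.inr_desc] at hb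
  let a := pushout.inl m (τ ≫ m) ≫ e.hom ≫ pullback.fst p qT
  let b := pushout.inr m (τ ≫ m) ≫ e.hom ≫ pullback.fst p qT
  -- comparing the two trivializations
  let h : P ⟶ P := hb.lift a (pullback.snd p q) ha.w
  have hh₁ : h ≫ b = a := hb.lift_fst _ _ _
  have hh₂ : h ≫ pullback.snd p q = pullback.snd p q := hb.lift_snd _ _ _
  have hmh : m ≫ h = τ ≫ m := hb.hom_ext (by
      rw [Category.assoc, hh₁]
      simp only [a, b, ← Category.assoc]
      rw [pushout.condition]) (by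
      rw [Category.assoc, hh₂, Category.assoc, hm.w, ← Category.assoc τ, hτs])
  refine ⟨h ≫ pullback.fst p q, ?_, ?_, ?_⟩
  · rw [Category.assoc, pullback.condition, ← Category.assoc, hh₂]
  all_goals
    intro Z z hz
    have hz₀ : Set.range (z ≫ pullback.snd p q) ⊆ Set.range U₀.ι := by
      rw [Scheme.Opens.range_ι]
      exact hz.trans (by first | exact Set.subset_union_left | exact Set.subset_union_right)
    let w := IsOpenImmersion.lift U₀.ι (z ≫ pullback.snd p q) hz₀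
    let z₀ := hm.lift z w (IsOpenImmersion.lift_fac _ _ _).symm
    have hz₀m : z₀ ≫ m = z := hm.lift_fst _ _ _
    have hfst : z₀ ≫ pullback.fst p q₀ = z ≫ pullback.fst p q := by
      rw [← hz₀m, Category.assoc, pullback.lift_fst]
    have hin : ∀ x, U₀.ι (s₀ (z₀ x)) = (z ≫ pullback.snd p q) x := fun x => by
      rw [← hz₀m, ← Scheme.Hom.comp_apply, ← Scheme.Hom.comp_apply, Category.assoc, hm.w]
    rw [← reassoc_of% hz₀m, ← Category.assoc m, hmh, Category.assoc, pullback.lift_fst, pullback.lift_fst]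
  · rw [hθ₁ Z z₀ (by rintro _ ⟨x, rfl⟩; show U₀.ι (s₀ (z₀ x)) ∈ A₁; rw [hin]; exact hz ⟨x, rfl⟩), hfst]
  · rw [hθ₂ Z z₀ (by rintro _ ⟨x, rfl⟩; show U₀.ι (s₀ (z₀ x)) ∈ A₂; rw [hin]; exact hz ⟨x, rfl⟩),
      ← Category.assoc, hfst, Category.assoc]

end Groth.Agent.H17.Genus1
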