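import Groth.Agent.H29DoubleCover.FibreDivisor
import Groth.Agent.H29DoubleCover.Swap
import Groth.Agent.H29DoubleCover.Unique
import Groth.Agent.H29RR.SmoothRegular
import Mathlib

/-!
# A curve of genus one has an automorphism other than the identity
-/

set_option autoImplicit false
set_option linter.style.haveILetI false

universe u

open CategoryTheory CategoryTheory.Limits AlgebraicGeometry TopologicalSpace

noncomputable section

namespace Groth.Agent.H17.Genus1

attribute [local instance 10000] H10Coh.hasSheafifyAb H10Coh.hasWeakSheafifyAb H10Coh.hasExtAb H10Coh.enoughInjAb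

/-- A one-dimensional Jacobson space has two closed points. -/
theorem exists_two_closed {X : Type u} [TopologicalSpace X] [JacobsonSpace X]
    (hdim : topologicalKrullDim X = 1) :
    ∃ P Q : X, IsClosed ({P} : Set X) ∧ IsClosed ({Q} : Set X) ∧ P ≠ Q := by
  by_contra hne
  push Not at hne
  haveI : Subsingleton X := ⟨fun a b => by
    have hsub : (closedPoints X).Subsingleton := fun P hP Q hQ => hne P Q hP hQ
    have hcl : IsClosed (closedPoints X) := by
      rcases hsub.eq_empty_or_singleton with h | ⟨x, hx⟩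
      · rw [h]; exact isClosed_empty
      · have hxc : x ∈ closedPoints X := hx ▸ Set.mem_singleton x
        rw [hx]; exact hxc
    have huniv : closedPoints X = Set.univ := by
      rw [← hcl.closure_eq, closure_closedPoints]
    exact hsub (huniv ▸ Set.mem_univ a) (huniv ▸ Set.mem_univ b)⟩
  have hsub : Subsingleton (IrreducibleCloseds X) := ⟨fun a b => by
    ext y
    obtain ⟨a', ha⟩ := a.isIrreducible.nonempty
    obtain ⟨b', hb⟩ := b.isIrreducible.nonempty
    exact ⟨fun _ => Subsingleton.elim b' y ▸ hb, fun _ => Subsingleton.elim a' y ▸ ha⟩⟩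
  have h : topologicalKrullDim X ≤ 0 := Order.krullDim_nonpos_of_subsingleton
  rw [hdim] at h
  exact absurd h (by norm_num)

/-- A proper smooth connected curve of genus one over an algebraically closed field has an
automorphism, over the field, of order two. -/
theorem exists_involution {k : Type u} [Field k] [IsAlgClosed k] {E : Scheme.{u}}
    (p : E ⟶ Spec (CommRingCat.of k)) [IsProper p] [Smooth p] [ConnectedSpace E]
    (hdim : topologicalKrullDim E = 1) (hg : @Curv2.genus k _ E ⟨p⟩ = 1) :
    ∃ σ : E ⟶ E, σ ≫ p = p ∧ σ ≫ σ = 𝟙 E ∧ σ ≠ 𝟙 E := by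
  letI : E.Over (Spec (CommRingCat.of k)) := ⟨p⟩
  haveI : IsProper (E ↘ Spec (CommRingCat.of k)) := ‹IsProper p›
  haveI : Smooth (E ↘ Spec (CommRingCat.of k)) := ‹Smooth p›
  haveI : GeometricallyConnected p := H22Alg.VarGeom.geometricallyConnected_of_isSepClosed p
  haveI : IsIntegral E := H29DoubleCover.isIntegral_of_smooth_connected p
  haveI := H29RR.isNoetherian_of_proper (k := k) (X := E)
  haveI : JacobsonSpace E := LocallyOfFiniteType.jacobsonSpace p
  haveI : IsProper (CohB1.ProjSpace.toSpec 1 k) := H27Weil.isProper_toSpec 1 k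
  haveI : IsLocallyNoetherian (CohB1.ProjSpace 1 k) :=
    LocallyOfFiniteType.isLocallyNoetherian (CohB1.ProjSpace.toSpec 1 k)
  obtain ⟨P, Q, hP, hQ, hne⟩ := exists_two_closed hdim
  obtain ⟨f, hf, hfin, hfl, hη, hr, hsep, hPQ, -⟩ :=
    H29DoubleCover.exists_double_cover_through (k := k) hdim hg hP hQ
  haveI := hfin
  haveI := hfl
  obtain ⟨hrk, -⟩ := H29DoubleCover.rank_and_etale (k := k) f hdim hf hη hr hsep
  obtain ⟨σ, hσ, hσσ, hswap⟩ := H29DoubleCover.exists_swap f hrk
  refine ⟨σ.hom, ?_, hσσ, fun h => hne ?_⟩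
  · show σ.hom ≫ (E ↘ Spec (CommRingCat.of k)) = E ↘ Spec (CommRingCat.of k)
    rw [← hf, ← Category.assoc, hσ]
  · have h1 := hswap P Q hQ hne hPQ
    rw [h] at h1
    exact h1

end Groth.Agent.H17.Genus1
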