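import Groth.Agent.H17.Genus1.Cubic
import Groth.Agent.H17.Genus1.Sigma
import Groth.Agent.H17.Genus1.Glue
import Groth.Agent.H13AlgSp.EtaleLocally
import Groth.Agent.H8Props.FieldDimScheme
import Groth.Agent.H29DoubleCover.Unique

/-!
# No fine moduli space for curves of genus one
-/

set_option autoImplicit false
set_option linter.style.haveILetI false
set_option backward.isDefEq.respectTransparency.types false

universe u

open CategoryTheory CategoryTheory.Limits AlgebraicGeometry TopologicalSpace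

noncomputable section

namespace Groth.Agent.H17.Genus1

attribute [local instance 10000] H10Coh.hasSheafifyAb H10Coh.hasWeakSheafifyAb H10Coh.hasExtAb H10Coh.enoughInjAb

variable {k : Type u} [Field k] [IsAlgClosed k]

theorem isCurve_baseChange {E : Scheme.{u}} (p : E ⟶ Spec (CommRingCat.of k)) [IsProper p] [Smooth p]
    [ConnectedSpace E] (hdim : topologicalKrullDim E = 1) {g : ℕ} (hg : @Curv2.genus k _ E ⟨p⟩ = g)
    {T : Scheme.{u}} (t : T ⟶ Spec (CommRingCat.of k)) :
    ModFun.IsCurveOfGenus g (pullback.snd p t) := by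
  haveI : GeometricallyConnected p := H22Alg.VarGeom.geometricallyConnected_of_isSepClosed p
  haveI := H29DoubleCover.geometricallyIntegral_of_smooth_connected p
  haveI : GeometricallyIrreducible p := inferInstance
  refine ⟨inferInstance, inferInstance,
    MorphismProperty.pullback_snd (P := @GeometricallyIrreducible) _ _ inferInstance, fun Ω _ _ s X i q hsq => ?_⟩
  have h := hsq.paste_horiz (IsPullback.of_hasPullback p t)
  obtain ⟨φ, hφ⟩ := Spec.map_surjective (s ≫ t)
  algebraize [φ.hom]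
  rw [← hφ] at h
  have h' : IsPullback (i ≫ pullback.fst p t) q p (Spec.map (CommRingCat.ofHom (algebraMap k Ω))) := h
  exact ⟨(H8Props.FieldDim.dim_baseChange p _ q h').trans hdim,
    (H29DoubleCover.genus_bc p q _ h').trans hg⟩

/-- An automorphism twisting only one of two branches through a point does not extend over it. -/
theorem eq_id_of_extension {S E U L : Scheme.{u}} (p : E ⟶ S) [IsSeparated p] [Smooth p] (q : U ⟶ S)
    (σ : E ⟶ E) (hσ : σ ≫ p = p) (A₁ A₂ : U.Opens) (φ : pullback p q ⟶ E) (hφp : φ ≫ p = pullback.snd p q ≫ q)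
    (hφ₁ : ∀ (Z : Scheme.{u}) (z : Z ⟶ pullback p q),
      Set.range (z ≫ pullback.snd p q) ⊆ A₁ → z ≫ φ = z ≫ pullback.fst p q)
    (hφ₂ : ∀ (Z : Scheme.{u}) (z : Z ⟶ pullback p q),
      Set.range (z ≫ pullback.snd p q) ⊆ A₂ → z ≫ φ = z ≫ pullback.fst p q ≫ σ)
    [IsReduced L] (qL : L ⟶ S) (W : L.Opens) (hW : Dense (W : Set L)) (j₁ j₂ : L ⟶ U)
    (hj₁ : j₁ ≫ q = qL) (hj₂ : j₂ ≫ q = qL) (hW₁ : W ≤ j₁ ⁻¹ᵁ A₁) (hW₂ : W ≤ j₂ ⁻¹ᵁ A₂)
    (o : S ⟶ L) (ho : o ≫ qL = 𝟙 S) (hjo : o ≫ j₁ = o ≫ j₂) : σ = 𝟙 E := by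
  let X := pullback p qL
  haveI : IsReduced X := H13AlgSp.isReduced_of_smooth_mor (pullback.snd p qL)
  let O : X.Opens := pullback.snd p qL ⁻¹ᵁ W
  haveI : IsDominant O.ι := ⟨by
    rw [DenseRange, Scheme.Opens.range_ι]
    exact hW.preimage (pullback.snd p qL).isOpenMap⟩
  let l : ∀ (j : L ⟶ U), j ≫ q = qL → (X ⟶ pullback p q) := fun j hj =>
    pullback.lift (pullback.fst p qL) (pullback.snd p qL ≫ j) (by rw [pullback.condition, Category.assoc, hj])
  have hrange : ∀ (j : L ⟶ U) (hj : j ≫ q = qL) (A : U.Opens), W ≤ j ⁻¹ᵁ A →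
      Set.range ((O.ι ≫ l j hj) ≫ pullback.snd p q) ⊆ A := by
    rintro j hj A hA _ ⟨x, rfl⟩
    rw [Category.assoc, pullback.lift_snd, Scheme.Hom.comp_apply, Scheme.Hom.comp_apply]
    exact hA x.2
  have hlp : ∀ (j : L ⟶ U) (hj : j ≫ q = qL), l j hj ≫ φ ≫ p = pullback.fst p qL ≫ p := fun j hj => by
    rw [hφp, pullback.lift_snd_assoc, Category.assoc, hj, pullback.condition]
  have h₁ : l j₁ hj₁ ≫ φ = pullback.fst p qL := by
    refine ext_of_isDominant_of_isSeparated p ((Category.assoc _ _ _).trans (hlp j₁ hj₁)) O.ι ?_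
    rw [← Category.assoc, hφ₁ _ _ (hrange j₁ hj₁ _ hW₁), Category.assoc, pullback.lift_fst]
  have h₂ : l j₂ hj₂ ≫ φ = pullback.fst p qL ≫ σ := by
    refine ext_of_isDominant_of_isSeparated p ((Category.assoc _ _ _).trans ((hlp j₂ hj₂).trans (by rw [Category.assoc, hσ]))) O.ι ?_
    rw [← Category.assoc, hφ₂ _ _ (hrange j₂ hj₂ _ hW₂)]
    simp only [Category.assoc, l, pullback.lift_fst_assoc]
  let s : E ⟶ X := pullback.lift (𝟙 E) (p ≫ o) (by rw [Category.assoc, ho, Category.id_comp, Category.comp_id])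
  have hs : s ≫ l j₁ hj₁ = s ≫ l j₂ hj₂ := by
    apply pullback.hom_ext
    · simp only [Category.assoc, l, pullback.lift_fst]
    · simp only [Category.assoc, l, pullback.lift_snd]
      rw [pullback.lift_snd_assoc, pullback.lift_snd_assoc, Category.assoc, Category.assoc, hjo]
  have h := congrArg (· ≫ φ) hs
  simp only [Category.assoc, h₁, h₂] at h
  rw [pullback.lift_fst, pullback.lift_fst_assoc, Category.id_comp] at h
  exact h.symm

theorem not_isFineModuli (M : Over (Spec (CommRingCat.of k))) :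
    ¬ ModFun.IsFineModuli ⊤ (ModFun.Mg (Spec (CommRingCat.of k)) 1) M := fun hM => by
  obtain ⟨E, p, hp, hs, hconn, hdim, hg⟩ := exists_genus_one k
  haveI := hp
  haveI := hs
  haveI := hconn
  obtain ⟨σ, hσ, hσσ, hne⟩ := exists_involution p hdim hg
  let I : Ideal (MvPolynomial (Fin 2) k) := Ideal.span {MvPolynomial.X 0 * MvPolynomial.X 1}
  let R := MvPolynomial (Fin 2) k ⧸ I
  let x : Fin 2 → R := fun i => Ideal.Quotient.mk I (MvPolynomial.X i)
  have hxy : x 0 * x 1 = 0 := by
    rw [← map_mul]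
    exact Ideal.Quotient.eq_zero_iff_mem.2 (Ideal.subset_span rfl)
  let U := Spec (CommRingCat.of R)
  let q : U ⟶ Spec (CommRingCat.of k) := Spec.map (CommRingCat.ofHom (algebraMap k R))
  let A : Fin 2 → U.Opens := fun i => PrimeSpectrum.basicOpen (x i)
  have hd : (A 0 : Set U) ∩ A 1 = ∅ := Set.eq_empty_of_forall_notMem fun y ⟨h0, h1⟩ => by
    have h : (x 0 * x 1) ∈ (y : PrimeSpectrum R).asIdeal := by rw [hxy]; exact Ideal.zero_mem _
    rcases (y : PrimeSpectrum R).isPrime.mem_or_mem h with h | h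
    · exact h0 h
    · exact h1 h
  obtain ⟨φ, hφp, hφ₁, hφ₂⟩ := exists_extension p q 1 (fun t => isCurve_baseChange p hdim hg t) M hM
    (A 0) (A 1) hd σ hσ hσσ
  let J : Fin 2 → (R →ₐ[k] Polynomial k) := fun i =>
    Ideal.Quotient.liftₐ I (MvPolynomial.aeval (fun l => if l = i then (Polynomial.X : Polynomial k) else 0))
      fun a ha => by
        obtain ⟨c, rfl⟩ := Ideal.mem_span_singleton'.1 ha
        fin_cases i <;> simp
  have hJ : ∀ i, J i (x i) = Polynomial.X := fun i => by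
    show Ideal.Quotient.liftₐ I _ _ (Ideal.Quotient.mk I _) = _
    simp
  let L := Spec (CommRingCat.of (Polynomial k))
  haveI : IsReduced L := inferInstance
  let qL : L ⟶ Spec (CommRingCat.of k) := Spec.map (CommRingCat.ofHom (algebraMap k (Polynomial k)))
  let j : Fin 2 → (L ⟶ U) := fun i => Spec.map (CommRingCat.ofHom (J i).toRingHom)
  have hj : ∀ i, j i ≫ q = qL := fun i => by
    rw [← Spec.map_comp]
    exact congrArg Spec.map (CommRingCat.hom_ext (RingHom.ext fun c => (J i).commutes c))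
  let W : L.Opens := PrimeSpectrum.basicOpen (Polynomial.X : Polynomial k)
  have hW : Dense (W : Set L) := by
    haveI : IrreducibleSpace ↥L := inferInstanceAs (IrreducibleSpace (PrimeSpectrum (Polynomial k)))
    refine W.2.dense ⟨(⟨⊥, Ideal.bot_prime⟩ : PrimeSpectrum (Polynomial k)), ?_⟩
    show (Polynomial.X : Polynomial k) ∉ (⊥ : Ideal (Polynomial k))
    simp
  have hWi : ∀ i, W ≤ j i ⁻¹ᵁ A i := fun i y hy => by
    show J i (x i) ∉ (y : PrimeSpectrum (Polynomial k)).asIdeal
    rw [hJ i]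
    exact hy
  let o : Spec (CommRingCat.of k) ⟶ L :=
    Spec.map (CommRingCat.ofHom (Polynomial.aeval (0 : k)).toRingHom)
  have ho : o ≫ qL = 𝟙 _ := by
    rw [← Spec.map_comp, ← Spec.map_id]
    exact congrArg Spec.map (CommRingCat.hom_ext (RingHom.ext fun c => (Polynomial.aeval (0 : k)).commutes c))
  have hjo : o ≫ j 0 = o ≫ j 1 := by
    rw [← Spec.map_comp, ← Spec.map_comp]
    refine congrArg Spec.map (CommRingCat.hom_ext ?_)
    refine Ideal.Quotient.ringHom_ext (MvPolynomial.ringHom_ext (fun c => ?_) fun l => ?_)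
    · show Polynomial.aeval (0 : k) (J 0 (algebraMap k R c)) = Polynomial.aeval (0 : k) (J 1 (algebraMap k R c))
      rw [(J 0).commutes, (J 1).commutes]
    · have key : ∀ i, J i (x l) = if l = i then Polynomial.X else 0 := fun i => by
        show Ideal.Quotient.liftₐ I _ _ (Ideal.Quotient.mk I _) = _
        simp
      show Polynomial.aeval (0 : k) (J 0 (x l)) = Polynomial.aeval (0 : k) (J 1 (x l))
      rw [key, key]
      fin_cases l <;> simp
  exact hne (eq_id_of_extension p q σ hσ (A 0) (A 1) φ hφp hφ₁ hφ₂ qL W hW (j 0) (j 1) (hj 0) (hj 1)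
    (hWi 0) (hWi 1) o ho hjo)

end Groth.Agent.H17.Genus1
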