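import Groth.Prelude.Def_ModFun
import Groth.Agent.H17.OpenPushout
import Mathlib

/-!
# Curves over a scheme glued from two opens; moduli maps as cartesian squares
-/

set_option autoImplicit false
set_option linter.style.haveILetI false

universe u

open CategoryTheory CategoryTheory.Limits AlgebraicGeometry TopologicalSpace

noncomputable section

namespace Groth.Agent.H17.Genus1

/-- Two morphisms on disjoint opens which cover glue. -/
theorem exists_glue_disjoint {X Y : Scheme.{u}} (V₁ V₂ : X.Opens) (hd : (V₁ : Set X) ∩ V₂ = ∅)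
    (hc : (V₁ : Set X) ∪ V₂ = Set.univ) (f₁ f₂ : X ⟶ Y) :
    ∃ f : X ⟶ Y, (∀ (Z : Scheme.{u}) (z : Z ⟶ X), Set.range z ⊆ V₁ → z ≫ f = z ≫ f₁) ∧
      (∀ (Z : Scheme.{u}) (z : Z ⟶ X), Set.range z ⊆ V₂ → z ≫ f = z ≫ f₂) := by
  let W : Bool → X.Opens := fun b => if b then V₁ else V₂
  have hW : iSup W = ⊤ := eq_top_iff.2 fun x _ => Opens.mem_iSup.2 (by
    rcases (hc.ge (Set.mem_univ x) : x ∈ (V₁ : Set X) ∪ V₂) with h | h
    · exact ⟨true, h⟩
    · exact ⟨false, h⟩)
  let 𝒰 := X.openCoverOfIsOpenCover W (.mk hW)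
  let g : ∀ b : Bool, (W b).toScheme ⟶ Y := fun b => (W b).ι ≫ (if b then f₁ else f₂)
  have hg : ∀ a b : Bool, pullback.fst (W a).ι (W b).ι ≫ g a = pullback.snd (W a).ι (W b).ι ≫ g b := by
    intro a b
    by_cases hab : a = b
    · subst hab
      simp only [g, ← Category.assoc, pullback.condition]
    · haveI : IsEmpty ↑(pullback (W a).ι (W b).ι) := ⟨fun x => by
        have h1 := (pullback.fst (W a).ι (W b).ι x).2
        have h2 := (pullback.snd (W a).ι (W b).ι x).2
        have h3 : (pullback.snd (W a).ι (W b).ι x).1 = (pullback.fst (W a).ι (W b).ι x).1 := by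
          have := congr($(pullback.condition (f := (W a).ι) (g := (W b).ι)).base x)
          exact this.symm
        rw [h3] at h2
        refine Set.notMem_empty _ (hd.le (?_ : (pullback.fst (W a).ι (W b).ι x).1 ∈ _))
        cases a <;> cases b <;> first | exact absurd rfl hab | exact ⟨h1, h2⟩ | exact ⟨h2, h1⟩⟩
      exact isInitialOfIsEmpty.hom_ext _ _
  let f : X ⟶ Y := 𝒰.glueMorphisms g hg
  have key : ∀ (b : Bool) (Z : Scheme.{u}) (z : Z ⟶ X), Set.range z ⊆ W b →
      z ≫ f = z ≫ (if b then f₁ else f₂) := fun b Z z hz => by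
    have hz' : Set.range z ⊆ Set.range (W b).ι := by rwa [Scheme.Opens.range_ι]
    rw [← IsOpenImmersion.lift_fac (W b).ι z hz', Category.assoc, Category.assoc]
    congr 1
    exact 𝒰.ι_glueMorphisms g hg b
  exact ⟨f, key true, key false⟩

variable {T A B : Scheme.{u}}

/-- A field-valued point factors through one of two jointly surjective opens. -/
theorem exists_fac (a : A ⟶ T) (b : B ⟶ T) [IsOpenImmersion a] [IsOpenImmersion b]
    (hcov : ∀ t : T, t ∈ Set.range a ∨ t ∈ Set.range b) {K : Type u} [Field K]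
    (t : Spec (CommRingCat.of K) ⟶ T) : (∃ s, s ≫ a = t) ∨ (∃ s, s ≫ b = t) := by
  haveI : Unique ↥(Spec (CommRingCat.of K)) := inferInstanceAs (Unique (PrimeSpectrum K))
  rcases hcov (t default) with h | h
  · exact Or.inl ⟨IsOpenImmersion.lift a t (by
      rintro _ ⟨x, rfl⟩; rwa [Unique.eq_default x]), IsOpenImmersion.lift_fac _ _ _⟩
  · exact Or.inr ⟨IsOpenImmersion.lift b t (by
      rintro _ ⟨x, rfl⟩; rwa [Unique.eq_default x]), IsOpenImmersion.lift_fac _ _ _⟩

/-- Being a curve of given genus is local for a cover of the base by two opens. -/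
theorem isCurve_local {g : ℕ} {C PA PB : Scheme.{u}} (π : C ⟶ T) (a : A ⟶ T) (b : B ⟶ T)
    [IsOpenImmersion a] [IsOpenImmersion b] (hcov : ∀ t : T, t ∈ Set.range a ∨ t ∈ Set.range b)
    {iA : PA ⟶ C} {πA : PA ⟶ A} (hA : IsPullback iA πA π a)
    {iB : PB ⟶ C} {πB : PB ⟶ B} (hB : IsPullback iB πB π b)
    (cA : ModFun.IsCurveOfGenus g πA) (cB : ModFun.IsCurveOfGenus g πB) :
    ModFun.IsCurveOfGenus g π := by
  let W : Bool → T.Opens := fun i => if i then a.opensRange else b.opensRange
  have hW : iSup W = ⊤ := eq_top_iff.2 fun x _ => Opens.mem_iSup.2 (by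
    rcases hcov x with h | h
    · exact ⟨true, h⟩
    · exact ⟨false, h⟩)
  have one : ∀ (P : MorphismProperty Scheme.{u}) [P.RespectsIso] {A PA : Scheme.{u}} (a : A ⟶ T)
      [IsOpenImmersion a] {iA : PA ⟶ C} {πA : PA ⟶ A}, IsPullback iA πA π a → P πA →
      P (pullback.snd π a.opensRange.ι) := by
    intro P _ A PA a _ iA πA hA h1
    have h : IsPullback iA (πA ≫ a.isoOpensRange.hom) π a.opensRange.ι :=
      IsPullback.of_iso hA (Iso.refl _) (Iso.refl _) a.isoOpensRange (Iso.refl _) (by simp) (by simp)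
        (by simp) (by simp)
    have h2 : P (h.isoPullback.hom ≫ pullback.snd π a.opensRange.ι) := by
      rw [h.isoPullback_hom_snd]
      exact (P.cancel_right_of_respectsIso _ _).2 h1
    exact (P.cancel_left_of_respectsIso _ _).1 h2
  have hloc : ∀ (P : MorphismProperty Scheme.{u}) [IsZariskiLocalAtTarget P], P πA → P πB → P π := by
    intro P _ h1 h2
    refine (IsZariskiLocalAtTarget.iff_of_openCover (P := P)
      (T.openCoverOfIsOpenCover W (.mk hW))).2 fun i => ?_
    show P (pullback.snd π (W i).ι)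
    cases i
    · exact one P b hB h2
    · exact one P a hA h1
  refine ⟨hloc @Smooth cA.1 cB.1, hloc @IsProper cA.2.1 cB.2.1, ⟨fun K _ t Z fst snd hsq => ?_⟩,
    fun Ω _ _ t X i q hsq => ?_⟩
  · rcases exists_fac a b hcov t with ⟨s, rfl⟩ | ⟨s, rfl⟩
    · exact cA.2.2.1.geometrically_irreducibleSpace s _ snd
        (IsPullback.of_right (h₁₁ := hA.lift fst (snd ≫ s) (by rw [hsq.w, Category.assoc]))
          (by rwa [hA.lift_fst]) (hA.lift_snd _ _ _) hA)
    · exact cB.2.2.1.geometrically_irreducibleSpace s _ snd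
        (IsPullback.of_right (h₁₁ := hB.lift fst (snd ≫ s) (by rw [hsq.w, Category.assoc]))
          (by rwa [hB.lift_fst]) (hB.lift_snd _ _ _) hB)
  · rcases exists_fac a b hcov t with ⟨s, rfl⟩ | ⟨s, rfl⟩
    · exact cA.2.2.2 Ω s X _ q
        (IsPullback.of_right (h₁₁ := hA.lift i (q ≫ s) (by rw [hsq.w, Category.assoc]))
          (by rwa [hA.lift_fst]) (hA.lift_snd _ _ _) hA)
    · exact cB.2.2.2 Ω s X _ q
        (IsPullback.of_right (h₁₁ := hB.lift i (q ≫ s) (by rw [hsq.w, Category.assoc]))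
          (by rwa [hB.lift_fst]) (hB.lift_snd _ _ _) hB)

end Groth.Agent.H17.Genus1
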